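import Cfsg.Agent.Fgs2.FrobCount
import Cfsg.Agent.Fgs2.Basic
import Cfsg.Agent.BG.B10

/-!
# Numbers of elements of the same order
-/

set_option autoImplicit false

namespace CF.Nse
open Subgroup Cfsg CF.BG

theorem dvd_of_fib {α β : Type*} [Finite α] (f : α → β) {S : Set α} {m : ℕ} (s : ∀ x ∈ S, ∀ y, f y = f x → y ∈ S)
    (d : ∀ x ∈ S, m ∣ {y | f y = f x}.ncard) : m ∣ S.ncard := by
  classical
  have := Fintype.ofFinite α
  rw [Set.ncard_eq_toFinset_card', Finset.card_eq_sum_card_image f]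
  refine Finset.dvd_sum fun b hb => ?_
  obtain ⟨x, hx, rfl⟩ := Finset.mem_image.1 hb
  rw [← Set.ncard_coe_finset, show ((Finset.filter (fun y => f y = f x) S.toFinset : Finset α) : Set α) =
    {y | f y = f x} by ext y; simpa using fun h => s x (by simpa using hx) y h]
  exact d x (by simpa using hx)

variable {G R : Type*} [Group G] [Finite G] [Group R] [Finite R] {N : Subgroup G} {x y : G} {A B D k m u v : ℕ}

/-- the number of elements with the same order as `x` -/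
noncomputable def a (x : G) : ℕ := {y : G | orderOf y = orderOf x}.ncard

theorem a_pos (x : G) : 0 < a x := (Set.ncard_pos (s := {y : G | orderOf y = orderOf x})).2 ⟨x, rfl⟩

omit [Finite G] in
theorem a_congr (h : orderOf y = orderOf x) : a y = a x := by rw [a, a, h]

omit [Finite G] in
theorem pow_congr (h : orderOf y = orderOf x) : y ^ m = 1 ↔ x ^ m = 1 := by
  rw [← orderOf_dvd_iff_pow_eq_one, ← orderOf_dvd_iff_pow_eq_one, h]

theorem dvd_ord {S : Set G} (s : ∀ x ∈ S, ∀ y, orderOf y = orderOf x → y ∈ S) (d : ∀ x ∈ S, m ∣ a x) :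
    m ∣ S.ncard := dvd_of_fib orderOf s d

theorem dvd_cls {S : Set G} (s : ∀ x ∈ S, ∀ g, g * x * g⁻¹ ∈ S) (d : ∀ x ∈ S, m ∣ (𝐂₁ x).index) :
    m ∣ S.ncard := dvd_of_fib ConjClasses.mk (fun x hx y h => by
      obtain ⟨g, rfl⟩ := isConj_iff.1 (ConjClasses.mk_eq_mk_iff_isConj.1 h.symm)
      exact s x hx g) fun x hx => (d x hx).trans ((CF.Fgs2.ncard_carrier_mk x).symm.trans
        (congrArg _ (Set.ext fun _ => ConjClasses.mem_carrier_iff_mk_eq))).dvd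

theorem frob (d : m ∣ Nat.card G) : m ∣ {x : G | x ^ m = 1}.ncard := CF.Fgs2.dvd_card_pow_eq_one d

theorem even_a (h : x ^ 2 ≠ 1) : Even (a x) := even_iff_two_dvd.2 (dvd_of_fib (S := {y : G | orderOf y = orderOf x})
  (fun y => s(y, y⁻¹))
  (fun y hy z e => by rcases Sym2.eq_iff.1 e with ⟨rfl, -⟩ | ⟨rfl, -⟩ <;> simpa using hy) fun y hy => by
    rw [show {z : G | s(z, z⁻¹) = s(y, y⁻¹)} = {y, y⁻¹} by ext; simp [inv_eq_iff_eq_inv],
      Set.ncard_pair fun e => h ((pow_congr hy).1 (by rw [sq]; nth_rw 2 [e]; exact mul_inv_cancel y))])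

theorem odd_a (h : orderOf x = 2) : Odd (a x) := by
  have := frob (G := G) (h ▸ orderOf_dvd_natCard x)
  rw [show {y : G | y ^ 2 = 1} = insert 1 {y : G | orderOf y = orderOf x} by
    ext y; by_cases e : y = 1 <;> simp [h, e, orderOf_eq_prime_iff],
    Set.ncard_insert_of_notMem (by simp [h])] at this
  exact Nat.not_even_iff_odd.1 (Nat.even_add_one.1 (even_iff_two_dvd.2 this))

theorem a_one : a (1 : G) = 1 := by simp [a]

/-- the set of values of `a` -/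
def nse (G : Type*) [Group G] : Set ℕ := {c : ℕ | 0 < c ∧ ∃ n : ℕ, c = Nat.card {g : G // orderOf g = n}}

theorem tr0 (h : nse G = nse R) (x : G) : ∃ y : R, a x = a y := by
  obtain ⟨p, n, e⟩ := h.le (show a x ∈ nse G from ⟨a_pos x, _, rfl⟩)
  obtain ⟨⟨y, rfl⟩⟩ := (Nat.card_pos_iff.1 (e ▸ p)).1
  exact ⟨y, e⟩

theorem eq_inv (h : nse G = nse R) {t : R} (ot : orderOf t = 2) (t1 : a t ≠ 1) (o : orderOf x = 2) : a x = a t := by
  obtain ⟨z, e⟩ := tr0 h.symm t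
  have z2 : z ^ 2 = 1 := by_contra fun k => Nat.not_even_iff_odd.2 (odd_a ot) (e ▸ even_a k)
  rw [e, a_congr (o.trans (orderOf_eq_prime z2 fun k => t1 (by rw [e, k, a_one])).symm)]

theorem tr (h : nse G = nse R) {t : R} (ot : orderOf t = 2) (t1 : a t ≠ 1) (x1 : x ≠ 1) :
    ∃ y : R, y ≠ 1 ∧ a x = a y := by
  obtain ⟨y, e⟩ := tr0 h x
  refine ⟨y, fun k => ?_, e⟩
  rw [k, a_one] at e
  by_cases x2 : x ^ 2 = 1
  · exact t1 ((eq_inv h ot t1 (orderOf_eq_prime x2 x1)).symm.trans e)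
  · exact absurd (e ▸ even_a x2) (by decide)

theorem tr' (h : nse G = nse R) (x2 : x ^ 2 ≠ 1) : ∃ y : R, y ^ 2 ≠ 1 ∧ a x = a y := by
  obtain ⟨y, e⟩ := tr0 h x
  refine ⟨y, fun k => Nat.not_odd_iff_even.2 (even_a x2) ?_, e⟩
  by_cases y1 : y = 1
  · rw [e, y1, a_one]; decide
  · exact e ▸ odd_a (orderOf_eq_prime k y1)

theorem cen_of_a {t : G} (h : a t = 1) : t ∈ center G := mem_center_iff.2 fun g => by
  obtain ⟨s, e⟩ := Set.ncard_eq_one.1 h
  exact mul_inv_eq_iff_eq_mul.1 ((Set.ext_iff.1 e _).1 (orderOf_conj' g t) |>.trans ((Set.ext_iff.1 e t).1 rfl).symm)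

theorem half (c : Nat.card G = u * D) (co : u.Coprime D) (h : ∀ x : G, x ≠ 1 → u ∣ a x ∨ D ∣ a x) (hx : x ^ D ≠ 1) :
    ¬ u ∣ a x := fun d => by
  have e := Set.ncard_add_ncard_compl {y : G | y ^ D = 1}
  have e' := Set.ncard_inter_add_ncard_sdiff_eq_ncard {y : G | y ^ D = 1}ᶜ {y | u ∣ a y}
  have d1 : D ∣ ({y : G | y ^ D = 1}ᶜ \ {y | u ∣ a y}).ncard := dvd_ord
    (fun y hy z k => ⟨(pow_congr k).not.2 hy.1, by rw [Set.mem_ofPred, a_congr k]; exact hy.2⟩)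
    fun y hy => (h y fun k => hy.1 (by simp [k])).resolve_left hy.2
  have d2 : u ∣ ({y : G | y ^ D = 1}ᶜ ∩ {y | u ∣ a y}).ncard := dvd_ord
    (fun y hy z k => ⟨(pow_congr k).not.2 hy.1, by rw [Set.mem_ofPred, a_congr k]; exact hy.2⟩) fun y hy => hy.2
  have d3 := co.mul_dvd_of_dvd_of_dvd d2 ((Nat.dvd_add_left d1).1 (e' ▸ (Nat.dvd_add_right
    (frob (c ▸ dvd_mul_left D u))).1 (e ▸ c ▸ dvd_mul_left D u)))
  have := Nat.le_of_dvd ((Set.ncard_pos).2 ⟨x, Set.mem_inter hx d⟩) d3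
  have : 0 < {y : G | y ^ D = 1}.ncard := (Set.ncard_pos).2 ⟨1, one_pow D⟩
  omega

theorem iso (c : Nat.card G = u * D) (co : u.Coprime D) (h : ∀ x : G, x ≠ 1 → u ∣ a x ∨ D ∣ a x) (x : G) :
    x ^ u = 1 ∨ x ^ D = 1 := by
  by_contra! k
  exact (h x fun e => k.1 (by simp [e])).elim (half c co h k.2)
    (half (c.trans (mul_comm _ _)) co.symm (fun y hy => (h y hy).symm) k.1)

theorem idx (h : ∀ y : G, y ^ A = 1 ∨ y ^ B = 1) (d : m ∣ Nat.card G) (co : m.Coprime B) (hx : x ^ A ≠ 1) :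
    m ∣ (𝐂₁ x).index := by
  refine Nat.Coprime.dvd_of_dvd_mul_left ?_ ((𝐂₁ x).card_mul_index ▸ d)
  refine Nat.Coprime.symm (Nat.coprime_of_dvd fun r hr d1 d2 => ?_)
  obtain ⟨s, hs, os⟩ := exists_mem_orderOf_eq hr d1
  have n : ∀ k, k ∣ B → r.Coprime k := fun k e => (co.coprime_dvd_left d2).coprime_dvd_right e
  have := (show Commute s x from mem_cent1.1 hs).orderOf_mul_eq_mul_orderOf_of_coprime
    (os ▸ n _ (orderOf_dvd_of_pow_eq_one ((h x).resolve_left hx)))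
  rcases h (s * x) with e | e <;> rw [← orderOf_dvd_iff_pow_eq_one, this] at e
  · exact hx (orderOf_dvd_iff_pow_eq_one.1 (dvd_of_mul_left_dvd e))
  · exact hr.one_lt.ne' (Nat.coprime_self _ |>.1 (n r (os ▸ dvd_of_mul_right_dvd e)))

theorem idx' (h : ∀ y : G, y ^ A = 1 ∨ y ^ B = 1) (d : m ∣ Nat.card G) (co : m.Coprime B) (hx : x ^ A ≠ 1) :
    m ∣ a x := dvd_cls (S := {y : G | orderOf y = orderOf x}) (fun y hy g => (orderOf_conj' g y).trans hy) fun _ hy => idx h d co ((pow_congr hy).not.2 hx)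

omit [Finite G] in
theorem ne_or (co : u.Coprime D) (x1 : x ≠ 1) : x ^ u ≠ 1 ∨ x ^ D ≠ 1 := by
  by_contra! k
  exact x1 (by simpa [co.gcd_eq_one] using pow_gcd_eq_one.2 k)

theorem dvd_or (c : Nat.card G = u * D) (co : u.Coprime D) (h : ∀ y : G, y ^ u = 1 ∨ y ^ D = 1) (x1 : x ≠ 1) :
    u ∣ a x ∨ D ∣ a x := (ne_or co x1).imp (idx' h (c ▸ dvd_mul_right _ _) co)
  (idx' (fun y => (h y).symm) (c ▸ dvd_mul_left _ _) co.symm)

/-- isolation is inherited -/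
theorem iso_tr (c : Nat.card G = u * D) (c' : Nat.card R = u * D) (co : u.Coprime D)
    (tr : ∀ x : G, x ≠ 1 → ∃ y : R, y ≠ 1 ∧ a x = a y) (h : ∀ y : R, y ^ u = 1 ∨ y ^ D = 1) (x : G) :
    x ^ u = 1 ∨ x ^ D = 1 :=
  iso c co (fun x x1 => (tr x x1).elim fun _ k => k.2 ▸ dvd_or c' co h k.1) x

theorem dvd_normal [n : N.Normal] (h : ∀ x ∈ N, x ≠ 1 → m ∣ (𝐂₁ x).index) : m ∣ ♯N - 1 := by
  have := dvd_cls (S := (N : Set G) \ {1}) (fun x hx g => ⟨n.conj_mem x hx.1 g, by simpa using hx.2⟩)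
    fun x hx => h x hx.1 hx.2
  rwa [Set.ncard_sdiff_singleton_of_mem N.one_mem, ← Nat.card_coe_set_eq] at this

/-- nontrivial solutions of `x ^ v = 1` -/
def Sl (G : Type*) [Group G] (v : ℕ) : Set G := {x | x ^ v = 1} \ {1}

theorem low (d : v ∣ Nat.card G) (h : ∀ x ∈ Sl G v, v ∣ a x ∨ D ∣ a x) (e : D ≡ k [MOD v]) :
    (v - 1) * D ≤ k * (Sl G v).ncard := by
  have s : ∀ x ∈ Sl G v, ∀ y, orderOf y = orderOf x → y ∈ Sl G v := fun x hx y o =>
    ⟨(pow_congr o).2 hx.1, fun k => hx.2 (by rw [show y = 1 from k] at o; simpa using o.symm)⟩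
  have e' := Set.ncard_inter_add_ncard_sdiff_eq_ncard (Sl G v) {y | v ∣ a y}
  obtain ⟨j, hj⟩ : D ∣ (Sl G v \ {y | v ∣ a y}).ncard := dvd_ord
    (fun y hy z k => ⟨s y hy.1 z k, by rw [Set.mem_ofPred, a_congr k]; exact hy.2⟩)
    fun y hy => (h y hy.1).resolve_left hy.2
  have d2 : v ∣ (Sl G v ∩ {y | v ∣ a y}).ncard := dvd_ord
    (fun y hy z k => ⟨s y hy.1 z k, by rw [Set.mem_ofPred, a_congr k]; exact hy.2⟩) fun y hy => hy.2
  have f := frob d
  rw [← Set.ncard_sdiff_singleton_add_one (s := {x : G | x ^ v = 1}) (a := 1) (one_pow v), ← Sl, ← e', add_assoc, Nat.dvd_add_right d2, hj] at f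
  have := Nat.le_of_dvd (Nat.succ_pos _) ((((e.mul_right j).add_right 1).dvd_iff dvd_rfl).1 f)
  calc (v - 1) * D ≤ k * j * D := Nat.mul_le_mul_right _ (by omega)
    _ ≤ _ := by rw [mul_assoc, mul_comm j, ← hj]; exact Nat.mul_le_mul_left _ (by omega)

omit [Finite G] in
theorem Sl_le [N.Normal] (co : v.Coprime N.index) : Sl G v ⊆ N := fun x hx => by
  obtain ⟨i, j, e⟩ := Nat.isCoprime_iff_coprime.2 co
  rw [SetLike.mem_coe, ← zpow_one x, ← e, zpow_add, mul_comm i, mul_comm j, zpow_mul, zpow_mul, zpow_natCast,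
    zpow_natCast, show x ^ v = 1 from hx.1, one_zpow, one_mul]
  exact zpow_mem (N.pow_index_mem x) j

omit [Finite G] in
theorem Sl_disj (co : u.Coprime v) : Disjoint (Sl G u) (Sl G v) := Set.disjoint_left.2 fun _ h1 h2 =>
  (ne_or co h1.2).elim (· h1.1) (· h2.1)

end CF.Nse
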